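import Groth.Agent.Lib.EtaleThick26.Lift

/-!
# Étale schemes lift along thickenings
-/

universe u

namespace GrothLib.EtaleThick

open AlgebraicGeometry CategoryTheory Limits

variable {X X' Y : Scheme.{u}} (t : X ⟶ X') [IsClosedImmersion t] [Surjective t]
  (q : Y ⟶ X) [Etale q]

/-- The affine opens of `Y` lying over affine opens of the thickening. -/
abbrev Idx : Type u := {U : Y.Opens // IsAffineOpen U ∧ ∃ V : X'.Opens, IsAffineOpen V ∧ U ≤ q ⁻¹ᵁ (t ⁻¹ᵁ V)}

theorem exists_idx (W : Y.Opens) (y : Y) (hy : y ∈ W) : ∃ U : Idx t q, y ∈ U.1 ∧ U.1 ≤ W := by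
  obtain ⟨_, ⟨V, hV, rfl⟩, hzV, -⟩ := X'.isBasis_affineOpens.exists_subset_of_mem_open
    (Set.mem_univ (t (q y))) isOpen_univ
  obtain ⟨_, ⟨U, hU, rfl⟩, hyU, hle⟩ := Y.isBasis_affineOpens.exists_subset_of_mem_open
    (show y ∈ ((W ⊓ q ⁻¹ᵁ (t ⁻¹ᵁ V) : Y.Opens) : Set Y) from ⟨hy, hzV⟩) (W ⊓ q ⁻¹ᵁ (t ⁻¹ᵁ V)).2
  exact ⟨⟨U, hU, V, hV, fun z hz => (hle hz).2⟩, hyU, fun z hz => (hle hz).1⟩

theorem idx_cover : ⨆ U : Idx t q, U.1 = ⊤ :=
  top_le_iff.1 fun y _ => by
    obtain ⟨U, hyU, -⟩ := exists_idx t q ⊤ y trivial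
    exact TopologicalSpace.Opens.mem_iSup.2 ⟨U, hyU⟩

noncomputable def loc (U : Idx t q) : LocalLift t q U.1 :=
  (nonempty_localLift t q U.1 U.2.1 U.2.2.choose U.2.2.choose_spec.1 U.2.2.choose_spec.2).some

variable {t q}

theorem trans_exists {U₁ U₂ : Idx t q} (h : U₁ ≤ U₂) :
    ∃! e : (loc t q U₁).obj ⟶ (loc t q U₂).obj,
      (loc t q U₁).j ≫ e = Y.homOfLE h ≫ (loc t q U₂).j ∧ e ≫ (loc t q U₂).map = (loc t q U₁).map :=
  existsUnique_lift (loc t q U₁).j (loc t q U₂).map _ _ (by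
    rw [Category.assoc, LocalLift.w, LocalLift.w, Scheme.homOfLE_ι_assoc])

noncomputable def trans {U₁ U₂ : Idx t q} (h : U₁ ≤ U₂) : (loc t q U₁).obj ⟶ (loc t q U₂).obj :=
  (trans_exists h).choose

theorem j_trans {U₁ U₂ : Idx t q} (h : U₁ ≤ U₂) :
    (loc t q U₁).j ≫ trans h = Y.homOfLE h ≫ (loc t q U₂).j :=
  (trans_exists h).choose_spec.1.1

theorem trans_map {U₁ U₂ : Idx t q} (h : U₁ ≤ U₂) : trans h ≫ (loc t q U₂).map = (loc t q U₁).map :=
  (trans_exists h).choose_spec.1.2

instance isOpenImmersion_trans {U₁ U₂ : Idx t q} (h : U₁ ≤ U₂) : IsOpenImmersion (trans h) := by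
  let L₁ := loc t q U₁
  let L₂ := loc t q U₂
  let i := Y.homOfLE (h : U₁.1 ≤ U₂.1)
  let O : L₂.obj.Opens := ⟨L₂.j '' Set.range i, isOpen_image L₂.j i.isOpenEmbedding.isOpen_range⟩
  let jO : (U₁.1 : Scheme.{u}) ⟶ O := IsOpenImmersion.lift O.ι (i ≫ L₂.j) (by
    rw [Scheme.Opens.range_ι]
    rintro _ ⟨z, rfl⟩
    exact ⟨i z, ⟨z, rfl⟩, rfl⟩)
  have hjO : jO ≫ O.ι = i ≫ L₂.j := IsOpenImmersion.lift_fac _ _ _
  have hsq : IsPullback jO i O.ι L₂.j := IsOpenImmersion.isPullback _ _ _ _ hjO.symm (by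
    ext z
    simp only [TopologicalSpace.Opens.map_coe, Scheme.Opens.opensRange_ι, Set.mem_preimage,
      Scheme.Hom.coe_opensRange]
    constructor
    · rintro ⟨w, hw, hwz⟩
      rwa [← L₂.j.isClosedEmbedding.injective hwz]
    · exact fun hz => ⟨z, hz, rfl⟩)
  haveI : IsClosedImmersion jO := MorphismProperty.of_isPullback hsq.flip inferInstance
  haveI : Surjective jO := MorphismProperty.of_isPullback hsq.flip inferInstance
  have hr : Set.range (trans h) ⊆ Set.range O.ι := by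
    rw [Scheme.Opens.range_ι]
    rintro _ ⟨z, rfl⟩
    obtain ⟨y, rfl⟩ := L₁.j.surjective z
    rw [← Scheme.Hom.comp_apply, j_trans]
    exact ⟨i y, ⟨y, rfl⟩, rfl⟩
  let e₀ := IsOpenImmersion.lift O.ι (trans h) hr
  have he₀ : e₀ ≫ O.ι = trans h := IsOpenImmersion.lift_fac _ _ _
  have hje : L₁.j ≫ e₀ = jO := by
    rw [← cancel_mono O.ι, Category.assoc, he₀, j_trans, hjO]
  obtain ⟨b, ⟨hb, hbm⟩, -⟩ := existsUnique_lift jO L₁.map L₁.j (O.ι ≫ L₂.map) (by
    rw [reassoc_of% hjO, LocalLift.w, LocalLift.w]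
    exact Scheme.homOfLE_ι_assoc _ _ _)
  haveI : IsIso e₀ := ⟨b, hom_ext L₁.j L₁.map (by rw [reassoc_of% hje, hb, Category.comp_id])
      (by rw [Category.assoc, hbm, reassoc_of% he₀, trans_map, Category.id_comp]),
    by
      rw [← cancel_mono O.ι, Category.assoc, he₀, Category.id_comp]
      refine hom_ext jO L₂.map ?_ ?_
      · rw [reassoc_of% hb, j_trans, hjO]
      · rw [Category.assoc, trans_map, hbm]⟩
  rw [← he₀]
  infer_instance

variable (t q)

/-- The diagram of local lifts. -/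
noncomputable abbrev diagram : Idx t q ⥤ Scheme.{u} where
  obj U := (loc t q U).obj
  map f := trans f.le
  map_id U := by
    refine hom_ext (loc t q U).j (loc t q U).map ?_ ?_
    · rw [j_trans, Scheme.homOfLE_rfl, Category.id_comp, Category.comp_id]
    · rw [trans_map, Category.id_comp]
  map_comp {U V W} f g := by
    refine hom_ext (loc t q U).j (loc t q W).map ?_ ?_
    · rw [j_trans, reassoc_of% (j_trans f.le), j_trans, Scheme.homOfLE_homOfLE_assoc]
    · rw [trans_map, Category.assoc, trans_map, trans_map]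

instance {i j : Idx t q} (f : i ⟶ j) : IsOpenImmersion ((diagram t q).map f) :=
  isOpenImmersion_trans f.le

theorem diagram_map_j {i k : Idx t q} (f : i ⟶ k) (y : i.1) :
    (diagram t q).map f ((loc t q i).j y) = (loc t q k).j ⟨y.1, f.le y.2⟩ := by
  show trans f.le ((loc t q i).j y) = _
  rw [← Scheme.Hom.comp_apply, j_trans, Scheme.Hom.comp_apply]
  congr 1
  apply Subtype.ext
  exact congr($(Scheme.homOfLE_ι Y f.le) y)

instance : ((diagram t q) ⋙ Scheme.forget).IsLocallyDirected := by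
  constructor
  intro i j k fi fj xi xj hx
  obtain ⟨yi, rfl⟩ := (loc t q i).j.surjective xi
  obtain ⟨yj, rfl⟩ := (loc t q j).j.surjective xj
  change (diagram t q).map fi _ = (diagram t q).map fj _ at hx
  rw [diagram_map_j, diagram_map_j] at hx
  have hy : yi.1 = yj.1 := congrArg Subtype.val ((loc t q k).j.isClosedEmbedding.injective hx)
  obtain ⟨l, hyl, hl⟩ := exists_idx t q (i.1 ⊓ j.1) yi.1 ⟨yi.2, hy ▸ yj.2⟩
  refine ⟨l, homOfLE (show l ≤ i from hl.trans inf_le_left), homOfLE (show l ≤ j from hl.trans inf_le_right),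
    (loc t q l).j ⟨yi.1, hyl⟩, ?_, ?_⟩
  · show (diagram t q).map _ _ = _
    rw [diagram_map_j]
    rfl
  · show (diagram t q).map _ _ = _
    rw [diagram_map_j]
    exact congrArg _ (Subtype.ext hy)

/-- Étale schemes lift along surjective closed immersions. -/
theorem exists_lift : ∃ (Y' : Scheme.{u}) (q' : Y' ⟶ X') (j : Y ⟶ Y'), Etale q' ∧ IsPullback j q q' t := by
  let q' : colimit (diagram t q) ⟶ X' := colimit.desc (diagram t q)
    { pt := X', ι := { app := fun U => (loc t q U).map, naturality := fun U V f =>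
        ((trans_map f.le).trans (Category.comp_id _).symm) } }
  have hq' : ∀ U, colimit.ι (diagram t q) U ≫ q' = (loc t q U).map := fun U => colimit.ι_desc _ _
  let 𝒰 : Y.OpenCover := Y.openCoverOfIsOpenCover (fun U : Idx t q => U.1) (idx_cover t q)
  let g : ∀ U : Idx t q, (U.1 : Scheme.{u}) ⟶ colimit (diagram t q) := fun U => (loc t q U).j ≫ colimit.ι (diagram t q) U
  have hg : ∀ {l U : Idx t q} (h : l ≤ U), Y.homOfLE h ≫ g U = g l := fun {l U} h => by
    rw [← Category.assoc, ← j_trans h, Category.assoc]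
    exact congrArg _ (colimit.w (diagram t q) (homOfLE h))
  have hov : ∀ i j : Idx t q, Y.homOfLE (inf_le_left : i.1 ⊓ j.1 ≤ i.1) ≫ g i =
      Y.homOfLE (inf_le_right : i.1 ⊓ j.1 ≤ j.1) ≫ g j := fun i j => by
    let W := i.1 ⊓ j.1
    choose l hzl hl using fun z : W.toScheme => exists_idx t q W z.1 z.2
    let 𝒱 := (W : Scheme.{u}).openCoverOfIsOpenCover (fun z => W.ι ⁻¹ᵁ (l z).1) (top_le_iff.mp fun z _ =>
      TopologicalSpace.Opens.mem_iSup.mpr ⟨z, hzl z⟩)
    refine Scheme.Cover.hom_ext 𝒱 _ _ fun z => ?_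
    show (W.ι ⁻¹ᵁ (l z).1).ι ≫ _ = (W.ι ⁻¹ᵁ (l z).1).ι ≫ _
    have e : (W.ι ⁻¹ᵁ (l z).1).ι = (W.ι ∣_ (l z).1) ≫ Y.homOfLE (hl z) := by
      rw [← cancel_mono W.ι, Category.assoc, Scheme.homOfLE_ι, morphismRestrict_ι]
    rw [e, Category.assoc, Category.assoc, Scheme.homOfLE_homOfLE_assoc, Scheme.homOfLE_homOfLE_assoc]
    congr 1
    exact (hg (U := i) ((hl z).trans inf_le_left)).trans (hg (U := j) ((hl z).trans inf_le_right)).symm
  let jY : Y ⟶ colimit (diagram t q) := Scheme.Cover.glueMorphisms 𝒰 g fun a b => by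
    show pullback.fst a.1.ι b.1.ι ≫ g a = pullback.snd a.1.ι b.1.ι ≫ g b
    let k : pullback a.1.ι b.1.ι ⟶ (a.1 ⊓ b.1 : Y.Opens) :=
      IsOpenImmersion.lift (a.1 ⊓ b.1).ι (pullback.fst a.1.ι b.1.ι ≫ a.1.ι) (by
        rw [Scheme.Opens.range_ι]
        rintro _ ⟨z, rfl⟩
        refine ⟨(pullback.fst a.1.ι b.1.ι z).2, ?_⟩
        rw [pullback.condition]
        exact (pullback.snd a.1.ι b.1.ι z).2)
    have hk : k ≫ (a.1 ⊓ b.1).ι = pullback.fst a.1.ι b.1.ι ≫ a.1.ι := IsOpenImmersion.lift_fac _ _ _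
    have h1 : k ≫ Y.homOfLE inf_le_left = pullback.fst a.1.ι b.1.ι := by
      rw [← cancel_mono a.1.ι, Category.assoc, Scheme.homOfLE_ι, hk]
    have h2 : k ≫ Y.homOfLE inf_le_right = pullback.snd a.1.ι b.1.ι := by
      rw [← cancel_mono b.1.ι, Category.assoc, Scheme.homOfLE_ι, hk, pullback.condition]
    rw [← h1, ← h2, Category.assoc, Category.assoc, hov a b]
  have hjY : ∀ U : Idx t q, U.1.ι ≫ jY = g U := fun U => Scheme.Cover.ι_glueMorphisms 𝒰 _ _ U
  have hwU : ∀ U : Idx t q, U.1.ι ≫ jY ≫ q' = U.1.ι ≫ q ≫ t := fun U => by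
    rw [reassoc_of% (hjY U)]
    show ((loc t q U).j ≫ colimit.ι (diagram t q) U) ≫ q' = _
    rw [Category.assoc, hq', LocalLift.w]
  have hw : jY ≫ q' = q ≫ t := Scheme.Cover.hom_ext 𝒰 _ _ hwU
  let c : Y ⟶ pullback q' t := pullback.lift jY q hw
  haveI : ∀ U : Idx t q, IsIso (pullback.snd c (pullback.fst (pullback.fst q' t) (colimit.ι (diagram t q) U))) := fun U => by
    let P := pullback (pullback.fst q' t) (colimit.ι (diagram t q) U)
    have hP : IsPullback (pullback.snd (pullback.fst q' t) (colimit.ι (diagram t q) U))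
        (pullback.fst (pullback.fst q' t) (colimit.ι (diagram t q) U) ≫ pullback.snd q' t) (loc t q U).map t := by
      rw [← hq' U]
      exact (IsPullback.of_hasPullback (pullback.fst q' t) (colimit.ι (diagram t q) U)).flip.paste_vert
        (IsPullback.of_hasPullback q' t)
    let m : (U.1 : Scheme.{u}) ⟶ P := hP.lift (loc t q U).j (U.1.ι ≫ q) (loc t q U).isPullback.w
    have hm : IsIso m := by
      have : m = ((loc t q U).isPullback.isoIsPullback _ _ hP).hom := by
        apply hP.hom_ext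
        · rw [IsPullback.isoIsPullback_hom_fst, hP.lift_fst]
        · rw [IsPullback.isoIsPullback_hom_snd, hP.lift_snd]
      rw [this]; infer_instance
    have hmfst : m ≫ pullback.fst (pullback.fst q' t) (colimit.ι (diagram t q) U) = U.1.ι ≫ c := by
      apply pullback.hom_ext
      · rw [Category.assoc, pullback.condition, ← Category.assoc, hP.lift_fst, Category.assoc, pullback.lift_fst, hjY]
      · rw [Category.assoc, hP.lift_snd, Category.assoc, pullback.lift_snd]
    have hbig : IsPullback (loc t q U).j U.1.ι (colimit.ι (diagram t q) U) (c ≫ pullback.fst q' t) := by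
      refine IsOpenImmersion.isPullback _ _ _ _ ?_ ?_
      · rw [pullback.lift_fst, hjY]
      · rw [pullback.lift_fst]
        ext y
        simp only [TopologicalSpace.Opens.map_coe, Scheme.Opens.opensRange_ι, Set.mem_preimage,
          Scheme.Hom.coe_opensRange, SetLike.mem_coe]
        obtain ⟨V, hyV, -⟩ := exists_idx t q ⊤ y trivial
        have hy : jY y = colimit.ι (diagram t q) V ((loc t q V).j ⟨y, hyV⟩) := by
          have := congr($(hjY V) ⟨y, hyV⟩)
          exact this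
        constructor
        · rintro ⟨z, hz⟩
          rw [hy, Scheme.IsLocallyDirected.ι_eq_ι_iff] at hz
          obtain ⟨l, fi, fj, x, hx1, hx2⟩ := hz
          obtain ⟨w, rfl⟩ := (loc t q l).j.surjective x
          rw [diagram_map_j] at hx2
          have : w.1 = y := congrArg Subtype.val ((loc t q V).j.isClosedEmbedding.injective hx2)
          exact this ▸ fi.le w.2
        · intro hyU
          refine ⟨(loc t q U).j ⟨y, hyU⟩, ?_⟩
          have := congr($(hjY U) ⟨y, hyU⟩)
          exact this.symm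
    have hleft : IsPullback m U.1.ι (pullback.fst (pullback.fst q' t) (colimit.ι (diagram t q) U)) c := by
      refine IsPullback.of_right ?_ hmfst (IsPullback.of_hasPullback (pullback.fst q' t) (colimit.ι (diagram t q) U)).flip
      rw [hP.lift_fst]
      exact hbig
    have e : (hleft.flip.isoPullback).hom ≫ pullback.snd c _ = m := hleft.flip.isoPullback_hom_snd
    have e' : pullback.snd c _ = hleft.flip.isoPullback.inv ≫ m := (Iso.eq_inv_comp _).2 e
    rw [e']
    infer_instance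
  haveI : IsIso c := by
    let 𝒲 : (pullback q' t).OpenCover :=
      (Scheme.IsLocallyDirected.openCover (diagram t q)).pullback₁ (pullback.fst q' t)
    exact IsZariskiLocalAtTarget.of_openCover (P := MorphismProperty.isomorphisms Scheme) 𝒲
      (fun U => this U)
  refine ⟨colimit (diagram t q), q', jY, ?_, IsPullback.of_iso_pullback ⟨hw⟩ (asIso c) (pullback.lift_fst _ _ _)
    (pullback.lift_snd _ _ _)⟩
  exact IsZariskiLocalAtSource.of_openCover (Scheme.IsLocallyDirected.openCover (diagram t q)) fun U => by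
    show Etale (colimit.ι (diagram t q) U ≫ q')
    rw [hq']
    exact (loc t q U).etale

end GrothLib.EtaleThick
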