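import Groth.Agent.S1489
import Groth.Agent.Lib.EtaleLiftH2.Quotient
import Mathlib.AlgebraicGeometry.Gluing
import Mathlib.Algebra.Category.Ring.Constructions

/-!
# Unique lifting and local lifts of étale schemes along thickenings
-/

universe u

namespace GrothLib.EtaleThick

open AlgebraicGeometry CategoryTheory Limits

/-- Étale morphisms have unique lifts along every surjective closed immersion. -/
theorem existsUnique_lift {T T' A B : Scheme.{u}} (t : T ⟶ T') [IsClosedImmersion t] [Surjective t]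
    (f : A ⟶ B) [Etale f] (a : T ⟶ A) (b : T' ⟶ B) (w : t ≫ b = a ≫ f) :
    ∃! l : T' ⟶ A, t ≫ l = a ∧ l ≫ f = b := by
  obtain ⟨s, ⟨hs, hts⟩, huniq⟩ := Groth.Agent.S1489.existsUnique_section t (pullback.snd f b)
    (pullback.lift a t w.symm) (pullback.lift_snd _ _ _)
  refine ⟨s ≫ pullback.fst f b, ⟨?_, ?_⟩, ?_⟩
  · rw [reassoc_of% hts, pullback.lift_fst]
  · rw [Category.assoc, pullback.condition, reassoc_of% hs]
  · rintro l ⟨hl, hlf⟩
    rw [← huniq (pullback.lift l (𝟙 _) (by simpa using hlf)) ⟨pullback.lift_snd _ _ _, ?_⟩,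
      pullback.lift_fst]
    apply pullback.hom_ext
    · rw [Category.assoc, pullback.lift_fst, pullback.lift_fst, hl]
    · rw [Category.assoc, pullback.lift_snd, pullback.lift_snd, Category.comp_id]

theorem hom_ext {T T' A B : Scheme.{u}} (t : T ⟶ T') [IsClosedImmersion t] [Surjective t]
    (f : A ⟶ B) [Etale f] {l l' : T' ⟶ A} (h : t ≫ l = t ≫ l') (h' : l ≫ f = l' ≫ f) : l = l' :=
  (existsUnique_lift t f (t ≫ l) (l ≫ f) (Category.assoc _ _ _).symm).unique ⟨rfl, rfl⟩ ⟨h.symm, h'.symm⟩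

theorem isOpen_image {T T' : Scheme.{u}} (t : T ⟶ T') [IsClosedImmersion t] [Surjective t] {s : Set T}
    (hs : IsOpen s) : IsOpen (t '' s) := by
  have := t.isClosedEmbedding.isClosedMap _ hs.isClosed_compl
  rw [Set.image_compl_eq ⟨t.isClosedEmbedding.injective, t.surjective⟩] at this
  exact isClosed_compl_iff.mp this

variable {X X' Y : Scheme.{u}} (t : X ⟶ X') [IsClosedImmersion t] [Surjective t]
  (q : Y ⟶ X) [Etale q]

/-- A lift of an open of `Y` to an étale scheme over the thickening. -/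
structure LocalLift (U : Y.Opens) where
  obj : Scheme.{u}
  map : obj ⟶ X'
  j : (U : Scheme.{u}) ⟶ obj
  etale : Etale map
  isPullback : IsPullback j (U.ι ≫ q) map t

attribute [instance] LocalLift.etale

theorem LocalLift.w {U : Y.Opens} (L : LocalLift t q U) : L.j ≫ L.map = U.ι ≫ q ≫ t := by
  rw [L.isPullback.w, Category.assoc]

instance LocalLift.isClosedImmersion {U : Y.Opens} (L : LocalLift t q U) : IsClosedImmersion L.j :=
  MorphismProperty.of_isPullback L.isPullback.flip inferInstance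

instance LocalLift.surjective {U : Y.Opens} (L : LocalLift t q U) : Surjective L.j :=
  MorphismProperty.of_isPullback L.isPullback.flip inferInstance

/-- Affine opens over affine opens lift. -/
theorem nonempty_localLift (U : Y.Opens) (hU : IsAffineOpen U) (V : X'.Opens) (hV : IsAffineOpen V)
    (e : U ≤ q ⁻¹ᵁ (t ⁻¹ᵁ V)) : Nonempty (LocalLift t q U) := by
  have hV₀ : IsAffineOpen (t ⁻¹ᵁ V) := hV.preimage t
  let κ := RingHom.quotientKerEquivOfSurjective (t.app_surjective V hV)
  let φ := q.appLE (t ⁻¹ᵁ V) U e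
  letI : Algebra (Γ(X', V) ⧸ RingHom.ker (t.app V).hom) Γ(Y, U) := (φ.hom.comp κ.toRingHom).toAlgebra
  haveI : Algebra.Etale (Γ(X', V) ⧸ RingHom.ker (t.app V).hom) Γ(Y, U) := by
    have : (φ.hom.comp κ.toRingHom).Etale :=
      RingHom.Etale.respectsIso.2 _ κ (q.etale_appLE hV₀ hU e)
    exact this
  obtain ⟨S, _, _, _, ⟨ε⟩⟩ := GrothLib.EtaleLiftH2.exists_etale_lift Γ(X', V)
    (RingHom.ker (t.app V).hom) Γ(Y, U)
  let σ : S →+* Γ(Y, U) := ε.toRingEquiv.toRingHom.comp Algebra.TensorProduct.includeRight.toRingHom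
  have hpush : IsPushout (t.app V) (CommRingCat.ofHom (algebraMap Γ(X', V) S)) φ (CommRingCat.ofHom σ) := by
    refine IsPushout.of_iso (CommRingCat.isPushout_tensorProduct Γ(X', V)
      (Γ(X', V) ⧸ RingHom.ker (t.app V).hom) S) (Iso.refl _) κ.toCommRingCatIso (Iso.refl _)
      ε.toRingEquiv.toCommRingCatIso ?_ ?_ ?_ ?_
    all_goals ext r
    all_goals first
      | rfl
      | exact AlgEquiv.commutes ε r
  have hQ : IsPullback (Spec.map (CommRingCat.ofHom σ)) (Spec.map φ)
      (Spec.map (CommRingCat.ofHom (algebraMap Γ(X', V) S))) (Spec.map (t.app V)) :=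
    (isPullback_SpecMap_of_isPushout _ _ _ _ hpush).flip
  have hsq : IsPullback (Spec.map (t.app V)) hV₀.fromSpec hV.fromSpec t := by
    refine IsOpenImmersion.isPullback _ _ _ _ ?_ ?_
    · rw [Scheme.Hom.app_eq_appLE]
      exact (IsAffineOpen.SpecMap_appLE_fromSpec t hV hV₀ _).symm
    · rw [IsAffineOpen.opensRange_fromSpec, IsAffineOpen.opensRange_fromSpec]
  haveI : Etale (Spec.map (CommRingCat.ofHom (algebraMap Γ(X', V) S))) := by
    rw [HasRingHomProperty.Spec_iff (P := @AlgebraicGeometry.Etale)]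
    exact RingHom.etale_algebraMap.2 inferInstance
  refine ⟨⟨Spec (CommRingCat.of S), Spec.map (CommRingCat.ofHom (algebraMap Γ(X', V) S)) ≫ hV.fromSpec,
    hU.isoSpec.hom ≫ Spec.map (CommRingCat.ofHom σ), inferInstance, ?_⟩⟩
  have hleft : IsPullback hU.isoSpec.hom (U.ι ≫ q) (Spec.map φ ≫ hV₀.fromSpec) (𝟙 X) := by
    refine IsPullback.of_horiz_isIso ⟨?_⟩
    rw [IsAffineOpen.SpecMap_appLE_fromSpec q hV₀ hU e, IsAffineOpen.isoSpec_hom_fromSpec_assoc,
      Category.comp_id]
  simpa only [Category.id_comp] using hleft.paste_horiz (hQ.paste_vert hsq)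

end GrothLib.EtaleThick
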